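import Cfsg.Agent.Lib.KnownB.PSUAut.Field
import Cfsg.Agent.Lib.KnownB.PSUAut.Rows
import Cfsg.Agent.Lib.Geometry.UnSplit
import Cfsg.Agent.Lib.Geometry.GraphPSL.Classes

/-!
Involutory graph automorphisms of `PSU_n(q)` correspond, with their centralisers and their conjugacy, to
those of `PSL_n(q)`: descend the unitary matrix along the fixed field of `x ↦ x^q`.
-/

set_option autoImplicit false

namespace CfsgLib.Geometry.GraphPSU

open Matrix CfsgLib.Classical CfsgLib.Classical.Unitary CfsgLib.KnownB CfsgLib.KnownB.PSUAut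
  CfsgLib.KnownB.Descent

variable {F F₀ : Type*} [Field F] [Field F₀] {n p q : ℕ} {σ : F →+* F} {τ : F ≃+* F} {ι : F₀ →+* F}

/-- The data: the unitary setting, the involution as an equivalence, and its fixed field. -/
structure Pair (σ : F →+* F) (τ : F ≃+* F) (ι : F₀ →+* F) (p q n : ℕ) : Prop where
  setting : Setting F σ p q n
  eq : ∀ x, τ x = σ x
  order : orderOf τ = 2
  fix : ∀ x, τ x = x ↔ ∃ y, ι y = x
  three : 3 ≤ n

theorem exists_pair [Fintype F] [Fintype F₀] {f : ℕ} [Fact p.Prime] (hq : q = p ^ f) (hf : 1 ≤ f)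
    (hF : Fintype.card F = q ^ 2) (hF₀ : Fintype.card F₀ = q) (hn : 3 ≤ n) :
    ∃ (σ : F →+* F) (τ : F ≃+* F) (ι : F₀ →+* F), Pair σ τ ι p q n := by
  obtain ⟨σ, S⟩ := exists_setting (F := F) hq hf hF hn
  let τ : F ≃+* F := RingEquiv.ofBijective σ (Function.Involutive.bijective S.frob.invol)
  have hτ : orderOf τ = 2 := by
    refine orderOf_eq_prime (RingEquiv.ext fun x => ?_) fun h => S.frob.ne (RingHom.ext fun x => ?_)
    · rw [sq]; exact S.frob.invol x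
    · exact DFunLike.congr_fun h x
  obtain ⟨-, h⟩ := fixed_field (p := p) (f := 2 * f) (by rw [hF, hq, ← pow_mul, mul_comm]) τ two_pos hτ
  obtain ⟨ι, hι⟩ := h F₀ (by rw [hF₀, hq, Nat.mul_div_cancel_left _ two_pos])
  exact ⟨σ, τ, ι, S, fun x => rfl, hτ, hι, hn⟩

local notation "Mn" => Matrix (Fin n) (Fin n) F
local notation "Mn₀" => Matrix (Fin n) (Fin n) F₀

namespace Pair

variable (D : Pair σ τ ι p q n)

include D

theorem invol (x : F) : τ (τ x) = x := by rw [D.eq, D.eq, D.setting.frob.invol]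

theorem ne_one : τ ≠ 1 := fun h => by
  have := D.order
  rw [h, orderOf_one] at this
  omega

theorem map_map (A : Mn) : (A.map τ).map τ = A := by ext i j; exact D.invol _

theorem map_ι (A : Mn₀) : (A.map ι).map τ = A.map ι := by
  ext i j
  exact (D.fix _).2 ⟨_, rfl⟩

theorem exists_lift {A : Mn} (h : A.map τ = A) : ∃ A₀ : Mn₀, A₀.map ι = A := by
  choose f hf using fun i j => (D.fix (A i j)).1 (congrFun (congrFun h i) j)
  exact ⟨Matrix.of f, Matrix.ext hf⟩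

theorem mem_GU {g : GL (Fin n) F} : g ∈ Cfsg.GU n F q ↔ (g : Mn)ᵀ * (g : Mn).map τ = 1 := by
  rw [UnSplit.mem_GU_iff_mul D.setting.frob, show (g : Mn).map τ = (g : Mn).map σ from Matrix.ext fun i j => D.eq _]

theorem exists_norm [Finite F] {c : F} (hc : τ c = c) : ∃ t, t * τ t = c := by
  obtain ⟨t, ht⟩ := CfsgLib.Geometry.exists_norm_eq D.setting.frob.ne D.setting.frob.invol
    (c := c) (by rwa [← D.eq])
  exact ⟨t, by rw [D.eq]; exact ht⟩

theorem exists_eigen [Finite F] {ε : F} (hε : ε = 1 ∨ ε = -1) : ∃ μ : F, μ ≠ 0 ∧ τ μ = ε * μ := by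
  rcases hε with rfl | rfl
  · exact ⟨1, one_ne_zero, by simp⟩
  · obtain ⟨x, hx⟩ : ∃ x, τ x ≠ x := by
      by_contra h
      exact D.ne_one (RingEquiv.ext fun x => not_not.1 fun h' => h ⟨x, h'⟩)
    exact ⟨x - τ x, sub_ne_zero.2 (Ne.symm hx), by rw [map_sub, D.invol]; ring⟩

end Pair

/-- The graph automorphism attached to a unitary matrix. -/
noncomputable def gautU (τ : F ≃+* F) (K : Cfsg.GU n F q) : MulAut (Cfsg.PSU n F q) := δ K⁻¹ * fld τ

/-- `K` descends to the form matrix `Γ` over the fixed field. -/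
def Desc (τ : F ≃+* F) (ι : F₀ →+* F) (K : Cfsg.GU n F q) (Γ : GL (Fin n) F₀) : Prop :=
  ∃ (P : GL (Fin n) F) (t μ : F), t ≠ 0 ∧ μ ≠ 0 ∧ K.1.1 * (P : Mn) = t • (P : Mn).map τ ∧
    (P : Mn)ᵀ * (P : Mn).map τ = μ • (Γ : Mn₀).map ι

theorem δ_mul_gautU (τ : F ≃+* F) (h K : Cfsg.GU n F q) :
    δ h * gautU τ K * (δ h)⁻¹ = δ (h * K⁻¹ * (mapGU τ h)⁻¹) * fld τ := by
  rw [gautU, ← map_inv δ, mul_assoc, mul_assoc (δ K⁻¹), fld_δ', ← mul_assoc (δ K⁻¹), ← map_mul, ← mul_assoc (δ h),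
    ← map_mul, map_inv, mul_assoc h]

section

variable [Finite F] (D : Pair σ τ ι p q n)

include D

theorem gautU_rel (h K K' : Cfsg.GU n F q) :
    δ h * gautU τ K * (δ h)⁻¹ = gautU τ K' ↔
      ∃ c : F, c ≠ 0 ∧ K'.1.1 * h.1.1 = c • (h.1.1.map τ * K.1.1) := by
  rw [δ_mul_gautU, gautU, mul_right_cancel_iff, ← mul_inv_eq_one, ← map_inv δ, ← map_mul, inv_inv]
  rw [show h * K⁻¹ * (mapGU τ h)⁻¹ * K' = (mapGU τ h * K * h⁻¹)⁻¹ * K' by group]
  rw [D.setting.δ_eq_one_iff D.three]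
  constructor
  · rintro ⟨u, hu⟩
    refine ⟨((u : Fˣ) : F), Units.ne_zero _, ?_⟩
    have h1 : K' * h = mapGU τ h * K * h⁻¹ * scalarGU n F q u * h := by
      rw [← hu]; group
    have h2 := congrArg (fun x : Cfsg.GU n F q => x.1.1) h1
    simp only [Subgroup.coe_mul, Units.val_mul, scalarGU_coe, mul_smul_comm, mul_one, smul_mul_assoc] at h2
    rw [h2]
    congr 1
    rw [mul_assoc, InvMemClass.coe_inv, Units.inv_mul, mul_one]
    rfl
  · rintro ⟨c, hc, he⟩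
    set M : Cfsg.GU n F q := (mapGU τ h * K * h⁻¹)⁻¹ * K' with hM
    have hMv : M.1.1 = c • (1 : Mn) := by
      have h1 : (mapGU τ h * K * h⁻¹).1.1 * M.1.1 = (mapGU τ h * K * h⁻¹).1.1 * (c • (1 : Mn)) := by
        rw [← Units.val_mul, ← Subgroup.coe_mul, hM, mul_inv_cancel_left, mul_smul_comm, mul_one,
          Subgroup.coe_mul, Units.val_mul, InvMemClass.coe_inv, ← smul_mul_assoc]
        rw [show c • ((mapGU τ h * K).1.1) = K'.1.1 * h.1.1 from he.symm, mul_assoc, Units.mul_inv, mul_one]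
      exact (mapGU τ h * K * h⁻¹).1.isUnit.mul_left_cancel h1
    have hN : M.1.1ᵀ * M.1.1.map τ = 1 := D.mem_GU.1 M.2
    rw [hMv, transpose_smul, transpose_one, map_smul_mat, Matrix.map_one τ τ.map_zero τ.map_one, smul_mul_assoc,
      one_mul, smul_smul] at hN
    haveI : NeZero n := ⟨by have := D.three; omega⟩
    have hcn : c * τ c = 1 := by simpa using congrFun (congrFun hN 0) 0
    have hu : Units.mk0 c hc ∈ normOne F q := MonoidHom.mem_ker.2 (Units.ext (by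
      rw [powMonoidHom_apply, Units.val_pow_eq_pow_val, Units.val_mk0, Units.val_one, pow_succ', ← D.setting.frob.pow,
        ← D.eq, hcn]))
    exact ⟨⟨_, hu⟩, Subtype.ext (Units.ext (by rw [hMv, scalarGU_coe]; rfl))⟩

theorem twist_lift {B : Mn} (hB : B ≠ 0) {c : F} (h : B.map τ = c • B) :
    ∃ (a : F) (B₀ : Mn₀), a ≠ 0 ∧ B = a • B₀.map ι := by
  haveI : NeZero n := ⟨by have := D.three; omega⟩
  obtain ⟨a, ha, hfix⟩ := fixed_up_to_scalar two_pos D.order hB h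
  obtain ⟨B₀, hB₀⟩ := D.exists_lift hfix
  exact ⟨a⁻¹, B₀, inv_ne_zero ha, by rw [hB₀, smul_smul, inv_mul_cancel₀ ha, one_smul]⟩

omit [Finite F] in
theorem gram_twist {P : GL (Fin n) F} {μ : F} {Γ : GL (Fin n) F₀}
    (h : (P : Mn)ᵀ * (P : Mn).map τ = μ • (Γ : Mn₀).map ι) :
    τ μ • (Γ : Mn₀).map ι = μ • (Γ : Mn₀)ᵀ.map ι := by
  have h1 : ((P : Mn)ᵀ * (P : Mn).map τ).map τ = ((P : Mn)ᵀ * (P : Mn).map τ)ᵀ := by
    rw [Matrix.map_mul, D.map_map, transpose_mul, transpose_transpose, Matrix.transpose_map]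
  rw [h, map_smul_mat, D.map_ι, transpose_smul, ← Matrix.transpose_map] at h1
  exact h1

omit [Finite F] in
theorem lift_gl {A : Mn₀} (h : IsUnit (A.map ι)) : ∃ R : GL (Fin n) F₀, (R : Mn₀) = A := by
  refine ⟨GeneralLinearGroup.mkOfDetNeZero A fun h0 => ?_, rfl⟩
  have := ((Matrix.isUnit_iff_isUnit_det _).1 h).ne_zero
  rw [← RingHom.mapMatrix_apply, ← RingHom.map_det, h0, map_zero] at this
  exact this rfl

omit D [Finite F] in
theorem map_ι_smul (d : F₀) (A : Mn₀) : (d • A).map ι = ι d • A.map ι := by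
  ext i j
  simp

/-- Conjugacy descends to congruence up to scalars. -/
theorem congr_of_rel {h K K' : Cfsg.GU n F q} {Γ Γ' : GL (Fin n) F₀} (hD : Desc τ ι K Γ)
    (hD' : Desc τ ι K' Γ') {c : F} (hc : c ≠ 0) (he : K'.1.1 * h.1.1 = c • (h.1.1.map τ * K.1.1)) :
    ∃ (R : GL (Fin n) F₀) (d : F₀), d ≠ 0 ∧ (Γ : Mn₀) = d • ((R : Mn₀)ᵀ * (Γ' : Mn₀) * (R : Mn₀)) := by
  obtain ⟨P, t, μ, ht, hμ, hKP, hG⟩ := hD
  obtain ⟨P', t', μ', ht', hμ', hKP', hG'⟩ := hD'
  haveI : NeZero n := ⟨by have := D.three; omega⟩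
  set B : Mn := ((P'⁻¹ : GL (Fin n) F) : Mn) * h.1.1 * (P : Mn) with hB
  have hPB : (P' : Mn) * B = h.1.1 * (P : Mn) := by rw [hB, ← mul_assoc, ← mul_assoc, Units.mul_inv, one_mul]
  have hPBσ : (P' : Mn).map τ * B.map τ = h.1.1.map τ * (P : Mn).map τ := by
    rw [← Matrix.map_mul, hPB, Matrix.map_mul]
  have h1 : t' • ((P' : Mn).map τ * B) = (c * t) • ((P' : Mn).map τ * B.map τ) := by
    rw [← smul_mul_assoc, ← hKP', mul_assoc, hPB, ← mul_assoc, he, smul_mul_assoc, mul_assoc, hKP, mul_smul_comm,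
      smul_smul, hPBσ]
  have hPu : IsUnit ((P' : Mn).map τ) := P'.isUnit.map (τ : F →+* F).mapMatrix
  have h2 : B.map τ = ((c * t)⁻¹ * t') • B := by
    refine hPu.mul_left_cancel ?_
    rw [mul_smul_comm, ← smul_smul, h1, smul_smul, inv_mul_cancel₀ (mul_ne_zero hc ht), one_smul]
  have hBu : IsUnit B := (((P'⁻¹ : GL (Fin n) F)).isUnit.mul h.1.isUnit).mul P.isUnit
  obtain ⟨a, B₀, ha, hBa⟩ := twist_lift D hBu.ne_zero h2
  obtain ⟨R, rfl⟩ := lift_gl D (ι := ι) (A := B₀) (by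
    have : B₀.map ι = a⁻¹ • B := by rw [hBa, smul_smul, inv_mul_cancel₀ ha, one_smul]
    rw [this]
    exact hBu.smul (Units.mk0 a⁻¹ (inv_ne_zero ha)))
  have h3 : μ • (Γ : Mn₀).map ι = (μ' * (a * τ a)) • ((R : Mn₀)ᵀ * (Γ' : Mn₀) * (R : Mn₀)).map ι := by
    calc μ • (Γ : Mn₀).map ι = (P : Mn)ᵀ * (h.1.1ᵀ * h.1.1.map τ) * (P : Mn).map τ := by
          rw [D.mem_GU.1 h.2, mul_one, hG]
      _ = (h.1.1 * (P : Mn))ᵀ * (h.1.1.map τ * (P : Mn).map τ) := by rw [transpose_mul]; simp only [mul_assoc]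
      _ = Bᵀ * ((P' : Mn)ᵀ * (P' : Mn).map τ) * B.map τ := by
          rw [← hPB, ← hPBσ, transpose_mul]; simp only [mul_assoc]
      _ = _ := by
          rw [hG', hBa, transpose_smul, map_smul_mat, D.map_ι, Matrix.map_mul, Matrix.map_mul, Matrix.transpose_map]
          simp only [mul_smul_comm, smul_mul_assoc, smul_smul, mul_assoc]
          congr 1
          ring
  obtain ⟨i, j, hij⟩ : ∃ i j, ((R : Mn₀)ᵀ * (Γ' : Mn₀) * (R : Mn₀)) i j ≠ 0 := by
    by_contra h0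
    push Not at h0
    exact (((Matrix.isUnit_transpose _).2 R.isUnit).mul Γ'.isUnit).mul R.isUnit |>.ne_zero (Matrix.ext h0)
  set S : Mn₀ := (R : Mn₀)ᵀ * (Γ' : Mn₀) * (R : Mn₀)
  have h4 : (Γ : Mn₀) = ((Γ : Mn₀) i j / S i j) • S := by
    refine Matrix.ext fun k l => ι.injective ?_
    have e1 := congrFun (congrFun h3 i) j
    have e2 := congrFun (congrFun h3 k) l
    simp only [Matrix.smul_apply, Matrix.map_apply, smul_eq_mul] at e1 e2 ⊢
    rw [map_mul, map_div₀]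
    have hS : ι (S i j) ≠ 0 := (map_ne_zero ι).2 hij
    field_simp
    apply mul_left_cancel₀ hμ
    linear_combination ι (S i j) * e2 - ι (S k l) * e1
  refine ⟨R, _, div_ne_zero (fun h0 => Γ.isUnit.ne_zero ?_) hij, h4⟩
  rw [h4, h0, zero_div, zero_smul]

/-- Congruence up to scalars lifts to conjugacy. -/
theorem rel_of_congr {K K' : Cfsg.GU n F q} {Γ Γ' : GL (Fin n) F₀} (hD : Desc τ ι K Γ) (hD' : Desc τ ι K' Γ')
    {R : GL (Fin n) F₀} {d : F₀} (hd : d ≠ 0) (he : (Γ : Mn₀) = d • ((R : Mn₀)ᵀ * (Γ' : Mn₀) * (R : Mn₀))) :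
    ∃ (h : Cfsg.GU n F q) (c : F), c ≠ 0 ∧ K'.1.1 * h.1.1 = c • (h.1.1.map τ * K.1.1) := by
  obtain ⟨P, t, μ, ht, hμ, hKP, hG⟩ := hD
  obtain ⟨P', t', μ', ht', hμ', hKP', hG'⟩ := hD'
  set S : Mn₀ := (R : Mn₀)ᵀ * (Γ' : Mn₀) * (R : Mn₀) with hS
  have hSu : IsUnit S := (((Matrix.isUnit_transpose _).2 R.isUnit).mul Γ'.isUnit).mul R.isUnit
  have hΓ' := gram_twist D hG'
  have hS' : τ μ' • S.map ι = μ' • Sᵀ.map ι := by
    have := congrArg (fun X : Mn => ((R : Mn₀).map ι)ᵀ * X * (R : Mn₀).map ι) hΓ'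
    simp only [mul_smul_comm, smul_mul_assoc] at this
    rw [hS, transpose_mul, transpose_mul, transpose_transpose]
    simp only [Matrix.map_mul, Matrix.transpose_map, mul_assoc] at this ⊢
    exact this
  have hΓ := gram_twist D hG
  rw [he, transpose_smul, map_ι_smul, map_ι_smul, smul_smul, smul_smul] at hΓ
  have hfix : τ (μ / μ') = μ / μ' := by
    have h1 : ((τ μ * ι d) * μ') • S.map ι = ((μ * ι d) * τ μ') • S.map ι := by
      rw [mul_comm (τ μ * ι d), ← smul_smul, hΓ, smul_smul, mul_comm μ', ← smul_smul, ← hS', smul_smul]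
    haveI : NeZero n := ⟨by have := D.three; omega⟩
    have hne : S.map ι ≠ 0 := (hSu.map ι.mapMatrix).ne_zero
    have h2 := sub_eq_zero.2 h1
    rw [← sub_smul] at h2
    have h3 := sub_eq_zero.1 ((smul_eq_zero.1 h2).resolve_right hne)
    have hμτ : τ μ' ≠ 0 := (map_ne_zero τ).2 hμ'
    rw [map_div₀, div_eq_div_iff hμτ hμ']
    refine mul_left_cancel₀ ((map_ne_zero ι).2 hd) ?_
    linear_combination h3
  obtain ⟨a, ha⟩ := D.exists_norm (c := ι d * (μ / μ')) (by rw [map_mul, hfix, (D.fix _).2 ⟨d, rfl⟩])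
  have ha0 : a ≠ 0 := fun h0 => mul_ne_zero ((map_ne_zero ι).2 hd) (div_ne_zero hμ hμ')
    (by rw [← ha, h0, zero_mul])
  let h : GL (Fin n) F := P' * (GeneralLinearGroup.scalar (Fin n) (Units.mk0 a ha0) * GeneralLinearGroup.map ι R) * P⁻¹
  have hv : (h : Mn) = a • ((P' : Mn) * (R : Mn₀).map ι * ((P⁻¹ : GL (Fin n) F) : Mn)) := by
    show (P' : Mn) * (Matrix.scalar (Fin n) a * (R : Mn₀).map ι) * ((P⁻¹ : GL (Fin n) F) : Mn) = _
    rw [Matrix.scalar_apply, ← Matrix.smul_one_eq_diagonal, smul_mul_assoc, one_mul, mul_smul_comm, smul_mul_assoc]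
  have hvσ : (h : Mn).map τ = τ a • ((P' : Mn).map τ * (R : Mn₀).map ι * ((P⁻¹ : GL (Fin n) F) : Mn).map τ) := by
    rw [hv, map_smul_mat, Matrix.map_mul, Matrix.map_mul, D.map_ι]
  have hinv : ((P⁻¹ : GL (Fin n) F) : Mn).map τ * (P : Mn).map τ = 1 := by
    rw [← Matrix.map_mul, Units.inv_mul, Matrix.map_one τ τ.map_zero τ.map_one]
  have hinv' : (P : Mn).map τ * ((P⁻¹ : GL (Fin n) F) : Mn).map τ = 1 := by
    rw [← Matrix.map_mul, Units.mul_inv, Matrix.map_one τ τ.map_zero τ.map_one]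
  have hh : h ∈ Cfsg.GU n F q := by
    rw [D.mem_GU, hvσ, hv, transpose_smul, smul_mul_assoc, mul_smul_comm, smul_smul, transpose_mul, transpose_mul]
    have e1 : ((R : Mn₀).map ι)ᵀ * ((P' : Mn)ᵀ * (P' : Mn).map τ) * (R : Mn₀).map ι = μ' • S.map ι := by
      rw [hG', mul_smul_comm, smul_mul_assoc, hS, Matrix.map_mul, Matrix.map_mul, Matrix.transpose_map]
    calc (a * τ a) • (((P⁻¹ : GL (Fin n) F) : Mn)ᵀ * (((R : Mn₀).map ι)ᵀ * (P' : Mn)ᵀ) *
          ((P' : Mn).map τ * (R : Mn₀).map ι * ((P⁻¹ : GL (Fin n) F) : Mn).map τ))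
        = (a * τ a) • (((P⁻¹ : GL (Fin n) F) : Mn)ᵀ * (μ' • S.map ι) * ((P⁻¹ : GL (Fin n) F) : Mn).map τ) := by
          rw [← e1]; simp only [mul_assoc]
      _ = ((P⁻¹ : GL (Fin n) F) : Mn)ᵀ * (μ • (Γ : Mn₀).map ι) * ((P⁻¹ : GL (Fin n) F) : Mn).map τ := by
          rw [he, map_ι_smul, ha]
          simp only [mul_smul_comm, smul_mul_assoc, smul_smul]
          congr 1
          field_simp
      _ = ((P : Mn) * ((P⁻¹ : GL (Fin n) F) : Mn))ᵀ * ((P : Mn).map τ * ((P⁻¹ : GL (Fin n) F) : Mn).map τ) := by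
          rw [← hG, transpose_mul]; simp only [mul_assoc]
      _ = 1 := by rw [Units.mul_inv, transpose_one, hinv', one_mul]
  refine ⟨⟨h, hh⟩, t' * a * (τ a * t)⁻¹,
    mul_ne_zero (mul_ne_zero ht' ha0) (inv_ne_zero (mul_ne_zero ((map_ne_zero τ).2 ha0) ht)), ?_⟩
  show K'.1.1 * (h : Mn) = _ • ((h : Mn).map τ * K.1.1)
  have hK : ((P⁻¹ : GL (Fin n) F) : Mn).map τ * K.1.1 = t • ((P⁻¹ : GL (Fin n) F) : Mn) := by
    calc _ = ((P⁻¹ : GL (Fin n) F) : Mn).map τ * (K.1.1 * (P : Mn)) * ((P⁻¹ : GL (Fin n) F) : Mn) := by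
          simp only [mul_assoc, Units.mul_inv, mul_one]
      _ = _ := by rw [hKP, mul_smul_comm, hinv, smul_mul_assoc, one_mul]
  rw [hvσ, hv, mul_smul_comm, smul_mul_assoc, mul_assoc ((P' : Mn).map τ * (R : Mn₀).map ι), hK, ← mul_assoc K'.1.1, ← mul_assoc K'.1.1, hKP']
  simp only [smul_mul_assoc, mul_smul_comm, smul_smul]
  congr 1
  field_simp [(map_ne_zero τ).2 ha0]

/-- Conjugacy of two graph automorphisms is conjugacy of their descents. -/
theorem conj_iff {K K' : Cfsg.GU n F q} {Γ Γ' : GL (Fin n) F₀} (hD : Desc τ ι K Γ) (hD' : Desc τ ι K' Γ') :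
    Cfsg.IsConjUnder (Cfsg.inndiagPSU n F q) (gautU τ K) (gautU τ K') ↔
      Cfsg.IsConjUnder (Cfsg.inndiagPSL n F₀) (GraphPSL.gaut Γ) (GraphPSL.gaut Γ') := by
  have hn := D.three
  rw [GraphPSL.isConjUnder_gaut_iff (by omega), D.setting.inndiag_eq]
  constructor
  · rintro ⟨_, ⟨h, rfl⟩, he⟩
    obtain ⟨c, hc, hrel⟩ := (gautU_rel D h K K').1 he.symm
    exact congr_of_rel D hD hD' hc hrel
  · rintro ⟨R, d, hd, he⟩
    obtain ⟨h, c, hc, hrel⟩ := rel_of_congr D hD hD' hd he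
    exact ⟨δ h, ⟨h, rfl⟩, ((gautU_rel D h K K').2 ⟨c, hc, hrel⟩).symm⟩

theorem comm_iff (h K : Cfsg.GU n F q) :
    h ∈ (Subgroup.centralizer {gautU τ K}).comap (δ : Cfsg.GU n F q →* MulAut (Cfsg.PSU n F q)) ↔
      ∃ c : F, c ≠ 0 ∧ K.1.1 * h.1.1 = c • (h.1.1.map τ * K.1.1) := by
  rw [Subgroup.mem_comap, Subgroup.mem_centralizer_singleton_iff, ← mul_inv_eq_iff_eq_mul, gautU_rel D]

/-- The shape of a centralising element. -/
theorem cent_shape {h K : Cfsg.GU n F q} {P : GL (Fin n) F} {t μ : F} {Γ : GL (Fin n) F₀} (ht : t ≠ 0)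
    (hμ : μ ≠ 0) (hKP : K.1.1 * (P : Mn) = t • (P : Mn).map τ)
    (hG : (P : Mn)ᵀ * (P : Mn).map τ = μ • (Γ : Mn₀).map ι)
    {c : F} (hc : c ≠ 0) (he : K.1.1 * h.1.1 = c • (h.1.1.map τ * K.1.1)) :
    ∃ (a : F) (A : GL (Fin n) F₀), a ≠ 0 ∧ h.1.1 * (P : Mn) = a • ((P : Mn) * (A : Mn₀).map ι) ∧
      (a * τ a) • ((A : Mn₀)ᵀ * (Γ : Mn₀) * (A : Mn₀)).map ι = (Γ : Mn₀).map ι := by
  set B : Mn := ((P⁻¹ : GL (Fin n) F) : Mn) * h.1.1 * (P : Mn) with hB
  have hPB : (P : Mn) * B = h.1.1 * (P : Mn) := by rw [hB, ← mul_assoc, ← mul_assoc, Units.mul_inv, one_mul]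
  have hPBσ : (P : Mn).map τ * B.map τ = h.1.1.map τ * (P : Mn).map τ := by
    rw [← Matrix.map_mul, hPB, Matrix.map_mul]
  have h1 : t • ((P : Mn).map τ * B) = (c * t) • ((P : Mn).map τ * B.map τ) := by
    rw [← smul_mul_assoc, ← hKP, mul_assoc, hPB, ← mul_assoc, he, smul_mul_assoc, mul_assoc, hKP, mul_smul_comm,
      smul_smul, hPBσ]
  have hPu : IsUnit ((P : Mn).map τ) := P.isUnit.map (τ : F →+* F).mapMatrix
  have h2 : B.map τ = ((c * t)⁻¹ * t) • B := by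
    refine hPu.mul_left_cancel ?_
    rw [mul_smul_comm, ← smul_smul, h1, smul_smul, inv_mul_cancel₀ (mul_ne_zero hc ht), one_smul]
  haveI : NeZero n := ⟨by have := D.three; omega⟩
  have hBu : IsUnit B := (((P⁻¹ : GL (Fin n) F)).isUnit.mul h.1.isUnit).mul P.isUnit
  obtain ⟨a, B₀, ha, hBa⟩ := twist_lift D hBu.ne_zero h2
  obtain ⟨A, rfl⟩ := lift_gl D (ι := ι) (A := B₀) (by
    have : B₀.map ι = a⁻¹ • B := by rw [hBa, smul_smul, inv_mul_cancel₀ ha, one_smul]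
    rw [this]
    exact hBu.smul (Units.mk0 a⁻¹ (inv_ne_zero ha)))
  refine ⟨a, A, ha, by rw [← hPB, hBa, mul_smul_comm], ?_⟩
  have hcalc : μ • (Γ : Mn₀).map ι = (μ * (a * τ a)) • ((A : Mn₀)ᵀ * (Γ : Mn₀) * (A : Mn₀)).map ι := by
    calc μ • (Γ : Mn₀).map ι = (P : Mn)ᵀ * (h.1.1ᵀ * h.1.1.map τ) * (P : Mn).map τ := by
          rw [D.mem_GU.1 h.2, mul_one, hG]
      _ = (h.1.1 * (P : Mn))ᵀ * (h.1.1.map τ * (P : Mn).map τ) := by rw [transpose_mul]; simp only [mul_assoc]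
      _ = Bᵀ * ((P : Mn)ᵀ * (P : Mn).map τ) * B.map τ := by
          rw [← hPB, ← hPBσ, transpose_mul]; simp only [mul_assoc]
      _ = _ := by
          rw [hG, hBa, transpose_smul, map_smul_mat, D.map_ι, Matrix.map_mul, Matrix.map_mul, Matrix.transpose_map]
          simp only [mul_smul_comm, smul_mul_assoc, smul_smul, mul_assoc]
          congr 1
          ring
  rw [← smul_smul] at hcalc
  exact (smul_right_injective Mn hμ hcalc).symm

theorem shape_unique {P : GL (Fin n) F} {a a' : F} {A A' : GL (Fin n) F₀} (ha : a ≠ 0)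
    (h : a • ((P : Mn) * (A : Mn₀).map ι) = a' • ((P : Mn) * (A' : Mn₀).map ι)) :
    A⁻¹ * A' ∈ Cfsg.Geo.scalars (Fin n) F₀ := by
  haveI : NeZero n := ⟨by have := D.three; omega⟩
  rw [← mul_smul_comm, ← mul_smul_comm] at h
  have h1 : a • (A : Mn₀).map ι = a' • (A' : Mn₀).map ι := P.isUnit.mul_left_cancel h
  have h2 : a • (1 : Mn) = a' • ((A⁻¹ * A' : GL (Fin n) F₀) : Mn₀).map ι := by
    have := congrArg (((A⁻¹ : GL (Fin n) F₀) : Mn₀).map ι * ·) h1
    simp only [mul_smul_comm, ← Matrix.map_mul, Units.inv_mul, Matrix.map_one ι ι.map_zero ι.map_one] at this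
    rw [Units.val_mul]
    exact this
  have ha' : a' ≠ 0 := fun h0 => by
    rw [h0, zero_smul] at h2
    exact ha ((smul_eq_zero.1 h2).resolve_right one_ne_zero)
  set M := A⁻¹ * A'
  have hent : ∀ i j, ι ((M : Mn₀) i j) = a'⁻¹ * a * (1 : Mn) i j := fun i j => by
    have := congrFun (congrFun h2 i) j
    simp only [Matrix.smul_apply, Matrix.map_apply, smul_eq_mul] at this
    field_simp
    linear_combination -this
  refine (Cfsg.Geo.mem_scalars_iff M).2 ⟨Units.mk0 ((M : Mn₀) 0 0) fun h0 => ?_, Matrix.ext fun i j => ι.injective ?_⟩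
  · have := hent 0 0
    rw [h0, map_zero, Matrix.one_apply_eq, mul_one] at this
    exact mul_ne_zero (inv_ne_zero ha') ha this.symm
  · rw [hent, Units.val_mk0, Matrix.smul_apply, smul_eq_mul, map_mul, hent, Matrix.one_apply_eq, mul_one]
    rcases eq_or_ne i j with rfl | hij
    · simp
    · simp [Matrix.one_apply_ne hij]

/-- A similitude of `Γ` lifts to a centralising element. -/
theorem cent_lift {K : Cfsg.GU n F q} {P : GL (Fin n) F} {t μ : F} {Γ B : GL (Fin n) F₀} (ht : t ≠ 0)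
    (hμ : μ ≠ 0) (hKP : K.1.1 * (P : Mn) = t • (P : Mn).map τ)
    (hG : (P : Mn)ᵀ * (P : Mn).map τ = μ • (Γ : Mn₀).map ι) {e : F₀ˣ}
    (he : (B : Mn₀)ᵀ * (Γ : Mn₀) * (B : Mn₀) = (e : F₀) • (Γ : Mn₀))
    {b : F} (hb0 : b ≠ 0) (hb : b * τ b = ι (e : F₀)⁻¹) :
    ∃ h : Cfsg.GU n F q,
      h ∈ (Subgroup.centralizer {gautU τ K}).comap (δ : Cfsg.GU n F q →* MulAut (Cfsg.PSU n F q)) ∧
      h.1.1 * (P : Mn) = b • ((P : Mn) * (B : Mn₀).map ι) := by
  let h : GL (Fin n) F :=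
    P * (GeneralLinearGroup.scalar (Fin n) (Units.mk0 b hb0) * GeneralLinearGroup.map ι B) * P⁻¹
  have hv : (h : Mn) * (P : Mn) = b • ((P : Mn) * (B : Mn₀).map ι) := by
    rw [← Units.val_mul, show h * P = P * (GeneralLinearGroup.scalar (Fin n) (Units.mk0 b hb0) *
      GeneralLinearGroup.map ι B) by simp [h]]
    show (P : Mn) * (Matrix.scalar (Fin n) b * (B : Mn₀).map ι) = _
    rw [Matrix.scalar_apply, ← Matrix.smul_one_eq_diagonal, smul_mul_assoc, one_mul, mul_smul_comm]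
  have hvτ : (h : Mn).map τ * (P : Mn).map τ = τ b • ((P : Mn).map τ * (B : Mn₀).map ι) := by
    rw [← Matrix.map_mul, hv, map_smul_mat, Matrix.map_mul, D.map_ι]
  have hh : h ∈ Cfsg.GU n F q := by
    rw [D.mem_GU]
    refine (P.isUnit.map (τ : F →+* F).mapMatrix).mul_right_cancel ?_
    refine ((Matrix.isUnit_transpose _).2 P.isUnit).mul_left_cancel ?_
    show (P : Mn)ᵀ * ((h : Mn)ᵀ * (h : Mn).map τ * (P : Mn).map τ) = (P : Mn)ᵀ * (1 * (P : Mn).map τ)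
    rw [mul_assoc, hvτ, mul_smul_comm, mul_smul_comm, ← mul_assoc, ← transpose_mul, hv, transpose_smul, smul_mul_assoc,
      smul_smul, transpose_mul, one_mul, hG]
    rw [show ((B : Mn₀).map ι)ᵀ * (P : Mn)ᵀ * ((P : Mn).map τ * (B : Mn₀).map ι) =
      ((B : Mn₀).map ι)ᵀ * ((P : Mn)ᵀ * (P : Mn).map τ) * (B : Mn₀).map ι by simp only [mul_assoc], hG,
      mul_smul_comm, smul_mul_assoc, smul_smul, ← Matrix.transpose_map, ← Matrix.map_mul, ← Matrix.map_mul,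
      he, map_ι_smul, smul_smul]
    congr 1
    rw [map_inv₀] at hb
    have he0 : ι (e : F₀) ≠ 0 := (map_ne_zero ι).2 e.ne_zero
    field_simp at hb ⊢
    linear_combination hb
  have hmem : (⟨h, hh⟩ : Cfsg.GU n F q) ∈
      (Subgroup.centralizer {gautU τ K}).comap (δ : Cfsg.GU n F q →* MulAut (Cfsg.PSU n F q)) := by
    rw [comm_iff D]
    refine ⟨b * (τ b)⁻¹, mul_ne_zero hb0 (inv_ne_zero ((map_ne_zero τ).2 hb0)), P.isUnit.mul_right_cancel ?_⟩
    show K.1.1 * (h : Mn) * (P : Mn) = ((b * (τ b)⁻¹) • ((h : Mn).map τ * K.1.1)) * (P : Mn)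
    rw [mul_assoc, hv, mul_smul_comm, ← mul_assoc, hKP, smul_mul_assoc, smul_mul_assoc, mul_assoc ((h : Mn).map τ),
      hKP, mul_smul_comm, hvτ, smul_smul, smul_smul, smul_smul]
    congr 1
    field_simp [(map_ne_zero τ).2 hb0]
  exact ⟨⟨h, hh⟩, hmem, hv⟩

/-- The centraliser of a graph automorphism is that of its descent. -/
theorem centralizer_equiv [Finite F₀] {K : Cfsg.GU n F q} {Γ : GL (Fin n) F₀} (hD : Desc τ ι K Γ) :
    Nonempty (↥(Cfsg.inndiagPSU n F q ⊓ Subgroup.centralizer {gautU τ K}) ≃*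
      Cfsg.projQuot (GraphPSL.simJ (Γ : Mn₀))) := by
  classical
  obtain ⟨P, t, μ, ht, hμ, hKP, hG⟩ := hD
  haveI : NeZero n := ⟨by have := D.three; omega⟩
  set C : Subgroup (Cfsg.GU n F q) :=
    (Subgroup.centralizer {gautU τ K}).comap (δ : Cfsg.GU n F q →* MulAut (Cfsg.PSU n F q)) with hC
  have hex : ∀ h : C, ∃ (a : F) (A : GL (Fin n) F₀), a ≠ 0 ∧
      h.1.1.1 * (P : Mn) = a • ((P : Mn) * (A : Mn₀).map ι) ∧
      (a * τ a) • ((A : Mn₀)ᵀ * (Γ : Mn₀) * (A : Mn₀)).map ι = (Γ : Mn₀).map ι := fun h => by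
    obtain ⟨c, hc, he⟩ := (comm_iff D h.1 K).1 h.2
    exact cent_shape D ht hμ hKP hG hc he
  choose a A ha hA hN using hex
  have hsim : ∀ h : C, A h ∈ GraphPSL.simJ (Γ : Mn₀) := by
    intro h
    have hn := hN h
    obtain ⟨y, hy⟩ := (D.fix (a h * τ (a h))).1 (by rw [map_mul, D.invol, mul_comm])
    have hy0 : y ≠ 0 := fun h0 => mul_ne_zero (ha h) ((map_ne_zero τ).2 (ha h)) (by rw [← hy, h0, map_zero])
    rw [← hy, ← map_ι_smul] at hn
    refine GraphPSL.mem_simJ.2 ⟨Units.mk0 y⁻¹ (inv_ne_zero hy0), ?_⟩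
    have h2 := Matrix.map_injective ι.injective hn
    rw [Units.val_mk0]
    conv_rhs => rw [← h2, smul_smul, inv_mul_cancel₀ hy0, one_smul]
  set N : Subgroup (GraphPSL.simJ (Γ : Mn₀)) :=
    (Cfsg.Geo.scalars (Fin n) F₀).subgroupOf (GraphPSL.simJ (Γ : Mn₀)) with hNd
  have key : ∀ (h : C) (b : F) (B : GraphPSL.simJ (Γ : Mn₀)), b ≠ 0 →
      h.1.1.1 * (P : Mn) = b • ((P : Mn) * (B.1 : Mn₀).map ι) →
      (QuotientGroup.mk ⟨A h, hsim h⟩ : Cfsg.projQuot (GraphPSL.simJ (Γ : Mn₀))) = QuotientGroup.mk B := by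
    intro h b B _ he
    rw [QuotientGroup.eq, Subgroup.mem_subgroupOf]
    exact shape_unique D (ha h) ((hA h).symm.trans he)
  let θ : C →* Cfsg.projQuot (GraphPSL.simJ (Γ : Mn₀)) :=
    MonoidHom.mk' (fun h => QuotientGroup.mk ⟨A h, hsim h⟩) fun h k => by
      rw [← QuotientGroup.mk_mul]
      refine key (h * k) (a h * a k) _ (mul_ne_zero (ha h) (ha k)) ?_
      show h.1.1.1 * k.1.1.1 * (P : Mn) = _ • ((P : Mn) * ((A h : Mn₀) * (A k : Mn₀)).map ι)
      rw [mul_assoc, hA k, mul_smul_comm, ← mul_assoc, hA h, smul_mul_assoc, smul_smul, mul_comm (a k),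
        Matrix.map_mul, mul_assoc]
  have hθs : Function.Surjective θ := by
    intro x
    obtain ⟨⟨B, hB⟩, rfl⟩ := QuotientGroup.mk_surjective x
    obtain ⟨e, he⟩ := GraphPSL.mem_simJ.1 hB
    obtain ⟨b, hb⟩ := D.exists_norm (c := ι (e : F₀)⁻¹) ((D.fix _).2 ⟨_, rfl⟩)
    have hb0 : b ≠ 0 := fun h0 => (map_ne_zero ι).2 (inv_ne_zero e.ne_zero) (by rw [← hb, h0, zero_mul])
    obtain ⟨g, hg, hgv⟩ := cent_lift D ht hμ hKP hG he hb0 hb
    exact ⟨⟨g, hg⟩, key _ b ⟨B, hB⟩ hb0 hgv⟩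
  set ψ := (δ : Cfsg.GU n F q →* MulAut (Cfsg.PSU n F q)).comp C.subtype with hψ
  have hrange : Cfsg.inndiagPSU n F q ⊓ Subgroup.centralizer {gautU τ K} = ψ.range := by
    rw [D.setting.inndiag_eq, hψ, MonoidHom.range_comp, Subgroup.range_subtype, hC, Subgroup.map_comap_eq]
  have hker : ψ.ker = θ.ker := by
    ext h
    rw [MonoidHom.mem_ker, hψ, MonoidHom.comp_apply, Subgroup.coe_subtype, D.setting.δ_eq_one_iff D.three,
      MonoidHom.mem_ker]
    constructor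
    · rintro ⟨u, hu⟩
      rw [← QuotientGroup.mk_one]
      refine key h ((u : Fˣ) : F) 1 (Units.ne_zero _) ?_
      rw [hu, scalarGU_coe, OneMemClass.coe_one, Units.val_one, Matrix.map_one ι ι.map_zero ι.map_one,
        smul_mul_assoc, one_mul, mul_one]
    · intro h1
      have hsc : A h ∈ Cfsg.Geo.scalars (Fin n) F₀ :=
        Subgroup.mem_subgroupOf.1 ((QuotientGroup.eq_one_iff (⟨A h, hsim h⟩ : GraphPSL.simJ (Γ : Mn₀))).1 h1)
      obtain ⟨e, he⟩ := (Cfsg.Geo.mem_scalars_iff _).1 hsc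
      have hh : h.1.1.1 = (a h * ι (e : F₀)) • (1 : Mn) := by
        refine P.isUnit.mul_right_cancel ?_
        rw [hA h, he, map_ι_smul, Matrix.map_one ι ι.map_zero ι.map_one, mul_smul_comm, mul_one, smul_smul,
          smul_mul_assoc, one_mul]
      have hne : a h * ι (e : F₀) ≠ 0 := mul_ne_zero (ha h) ((map_ne_zero ι).2 e.ne_zero)
      have hn1 := D.mem_GU.1 h.1.2
      rw [hh, transpose_smul, transpose_one, map_smul_mat, Matrix.map_one τ τ.map_zero τ.map_one, smul_mul_assoc,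
        one_mul, smul_smul] at hn1
      have hcn := congrFun (congrFun hn1 0) 0
      simp only [Matrix.smul_apply, Matrix.one_apply_eq, smul_eq_mul, mul_one] at hcn
      have hu : Units.mk0 _ hne ∈ normOne F q := MonoidHom.mem_ker.2 (Units.ext (by
        rw [powMonoidHom_apply, Units.val_pow_eq_pow_val, Units.val_mk0, Units.val_one, pow_succ',
          ← D.setting.frob.pow, ← D.eq, hcn]))
      exact ⟨⟨_, hu⟩, Subtype.ext (Units.ext (by rw [hh, scalarGU_coe]; rfl))⟩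
  exact ⟨(MulEquiv.subgroupCongr hrange).trans ((QuotientGroup.quotientKerEquivRange ψ).symm.trans
    ((QuotientGroup.quotientMulEquivOfEq hker).trans (QuotientGroup.quotientKerEquivOfSurjective θ hθs)))⟩

theorem eq_of_sq {υ : F ≃+* F} (h2 : υ ^ 2 = 1) (h1 : υ ≠ 1) : υ = τ := by
  classical
  have := D.setting.char
  haveI := Fact.mk D.setting.prime
  letI : Algebra (ZMod p) F := ZMod.algebra F p
  haveI : Finite (F ≃+* F) := Finite.of_injective _ DFunLike.coe_injective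
  haveI : Fintype (F ≃+* F) := Fintype.ofFinite _
  haveI : IsCyclic (F ≃+* F) := isCyclic_of_surjective (PSLAut.galEquiv (p := p) (F := F)).symm.toMonoidHom
    (PSLAut.galEquiv (p := p) (F := F)).symm.surjective
  have hle := IsCyclic.card_pow_eq_one_le (α := F ≃+* F) two_pos
  by_contra hne
  have hτ2 : τ ^ 2 = 1 := D.order ▸ pow_orderOf_eq_one τ
  have hsub : ({1, τ, υ} : Finset (F ≃+* F)) ⊆ Finset.univ.filter fun x => x ^ 2 = 1 := by
    intro x hx
    simp only [Finset.mem_insert, Finset.mem_singleton] at hx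
    refine Finset.mem_filter.2 ⟨Finset.mem_univ _, ?_⟩
    rcases hx with rfl | rfl | rfl
    · exact one_pow 2
    · exact hτ2
    · exact h2
  have h3 : ({1, τ, υ} : Finset (F ≃+* F)).card = 3 := by
    rw [Finset.card_insert_of_notMem (by simp [Ne.symm D.ne_one, Ne.symm h1]), Finset.card_pair (Ne.symm hne)]
  have := Finset.card_le_card hsub
  omega

/-- Every involutory graph automorphism descends. -/
theorem exists_desc {x : MulAut (Cfsg.PSU n F q)} (hx : Cfsg.IsGraphAutClassPSU x) (hx2 : orderOf x = 2) :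
    ∃ (K : Cfsg.GU n F q) (Γ : GL (Fin n) F₀), x = gautU τ K ∧ Desc τ ι K Γ ∧
      ((Γ : Mn₀)ᵀ = (Γ : Mn₀) ∨ (Γ : Mn₀)ᵀ = -(Γ : Mn₀)) := by
  haveI : NeZero n := ⟨by have := D.three; omega⟩
  obtain ⟨-, d, φ, υ, hev, hd, hφ, rfl⟩ := hx
  obtain ⟨g, rfl⟩ := (innerDiag_iff d).1 hd
  rw [fieldAut_iff] at hφ
  subst hφ
  have hsq : (δ g * fld υ : MulAut (Cfsg.PSU n F q)) * (δ g * fld υ) = 1 := by
    rw [← sq, ← hx2, pow_orderOf_eq_one]
  rw [mul_assoc, ← mul_assoc (fld υ), fld_δ', mul_assoc (δ (mapGU υ g)), ← mul_assoc, ← map_mul δ, ← map_mul fld] at hsq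
  obtain ⟨hυ, u, hu⟩ := D.setting.δ_fld_eq_one D.three hsq
  rw [← sq] at hυ
  have hυτ : υ = τ := eq_of_sq D hυ fun h => by rw [h, orderOf_one] at hev; exact (by decide : ¬ Even 1) hev
  subst υ
  set K := g⁻¹ with hK
  set c : F := ((u : Fˣ) : F) with hcd
  have hgg : g.1.1 * g.1.1.map τ = c • (1 : Mn) := by
    have := congrArg (fun z : Cfsg.GU n F q => z.1.1) hu
    rw [scalarGU_coe] at this
    exact this
  have hgU := D.mem_GU.1 g.2
  have hsym : g.1.1 = c • g.1.1ᵀ := by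
    calc g.1.1 = g.1.1 * (g.1.1.map τ * g.1.1ᵀ) := by rw [mul_eq_one_comm.1 hgU, mul_one]
      _ = _ := by rw [← mul_assoc, hgg, smul_mul_assoc, one_mul]
  have hc2 : c * c = 1 := by
    have h1 := congrArg transpose hsym
    rw [transpose_smul, transpose_transpose] at h1
    have h2 : g.1.1 = (c * c) • g.1.1 := by rw [← smul_smul, ← h1]; exact hsym
    by_contra hne
    have h3 : (c * c - 1) • g.1.1 = 0 := by rw [sub_smul, one_smul, ← h2, sub_self]
    exact g.1.isUnit.ne_zero ((smul_eq_zero.1 h3).resolve_left (sub_ne_zero.2 hne))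
  have hcε : c = 1 ∨ c = -1 := mul_self_eq_one_iff.1 hc2
  have hcfix : τ c = c := by rcases hcε with h | h <;> simp [h]
  have hKU := D.mem_GU.1 K.2
  have hKK : K.1.1.map τ * K.1.1 = c⁻¹ • (1 : Mn) := by
    have hKg : K.1.1.map τ * g.1.1.map τ = 1 := by
      rw [← Matrix.map_mul, hK, InvMemClass.coe_inv, Units.inv_mul, Matrix.map_one τ τ.map_zero τ.map_one]
    have hgg' : g.1.1.map τ * g.1.1 = c • (1 : Mn) := by
      have h := congrArg (fun M : Mn => M.map τ) hgg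
      simp only [Matrix.map_mul, D.map_map, map_smul_mat, Matrix.map_one τ τ.map_zero τ.map_one, hcfix] at h
      exact h
    have hc0 : c ≠ 0 := Units.ne_zero _
    calc K.1.1.map τ * K.1.1 = K.1.1.map τ * (c⁻¹ • (g.1.1.map τ * g.1.1)) * K.1.1 := by
          rw [hgg', smul_smul, inv_mul_cancel₀ hc0, one_smul, mul_one]
      _ = _ := by
          rw [mul_smul_comm, ← mul_assoc, hKg, one_mul, smul_mul_assoc, hK, InvMemClass.coe_inv, Units.mul_inv]
  obtain ⟨t, ht⟩ := D.exists_norm (c := c⁻¹) (by rw [map_inv₀, hcfix])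
  have ht0 : t ≠ 0 := fun h0 => inv_ne_zero (Units.ne_zero (u : Fˣ)) (by rw [← hcd, ← ht, h0, zero_mul])
  obtain ⟨P, hP⟩ := descent two_pos D.order (g := (τ t)⁻¹ • K.1.1.map τ) (by
    simp only [sprod]
    rw [Matrix.map_one τ τ.map_zero τ.map_one, mul_one, map_smul_mat, D.map_map, smul_mul_assoc, mul_smul_comm,
      smul_smul, hKK, smul_smul, map_inv₀, D.invol, ← mul_inv, mul_comm (τ t), ht, inv_inv,
      mul_inv_cancel₀ (Units.ne_zero _), one_smul])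
  have hKP : K.1.1 * (P : Mn) = t • (P : Mn).map τ := by
    have h := congrArg (fun M : Mn => M.map τ) hP
    simp only [Matrix.map_mul, map_smul_mat, D.map_map, map_inv₀, D.invol, smul_mul_assoc] at h
    rw [← h, smul_smul, mul_inv_cancel₀ ht0, one_smul]
  set H : Mn := (P : Mn)ᵀ * (P : Mn).map τ with hH
  have hKT : K.1.1ᵀ = c • K.1.1 := by
    have h1 : (c • K.1.1 : Mn) * g.1.1 = K.1.1ᵀ * g.1.1 := by
      rw [smul_mul_assoc, hK, InvMemClass.coe_inv, Units.inv_mul]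
      calc c • (1 : Mn) = c • (g.1⁻¹.1ᵀ * g.1.1ᵀ) := by rw [← transpose_mul, Units.mul_inv, transpose_one]
        _ = g.1⁻¹.1ᵀ * (c • g.1.1ᵀ) := by rw [mul_smul_comm]
        _ = _ := by rw [← hsym]
    exact (g.1.isUnit.mul_right_cancel h1).symm
  have hHt : H = t⁻¹ • ((P : Mn)ᵀ * K.1.1 * (P : Mn)) := by
    rw [mul_assoc, hKP, mul_smul_comm, smul_smul, inv_mul_cancel₀ ht0, one_smul]
  have hHT : Hᵀ = c • H := by
    rw [hHt, transpose_smul, transpose_mul, transpose_mul, transpose_transpose, hKT, smul_mul_assoc, mul_smul_comm,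
      smul_comm, mul_assoc]
  have hHσ : H.map τ = c • H := by
    rw [← hHT, hH, Matrix.map_mul, D.map_map, transpose_mul, transpose_transpose, Matrix.transpose_map]
  obtain ⟨μ, hμ, hμτ⟩ := D.exists_eigen hcε
  have hfix : (μ⁻¹ • H).map τ = μ⁻¹ • H := by
    rw [map_smul_mat, hHσ, smul_smul, map_inv₀, hμτ, mul_inv, mul_comm c⁻¹, mul_assoc,
      inv_mul_cancel₀ (Units.ne_zero _), mul_one]
  obtain ⟨Γ₀, hΓ₀⟩ := D.exists_lift hfix
  have hHu : IsUnit H := ((Matrix.isUnit_transpose _).2 P.isUnit).mul (P.isUnit.map (τ : F →+* F).mapMatrix)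
  obtain ⟨Γ, rfl⟩ := lift_gl D (A := Γ₀) (by
    rw [hΓ₀]; exact hHu.smul (Units.mk0 μ⁻¹ (inv_ne_zero hμ)))
  have hT : (Γ : Mn₀)ᵀ.map ι = c • (Γ : Mn₀).map ι := by
    rw [Matrix.transpose_map, hΓ₀, transpose_smul, hHT, smul_comm]
  refine ⟨K, Γ, by rw [gautU, hK, inv_inv], ⟨P, t, μ, ht0, hμ, hKP, by
    rw [hΓ₀, smul_smul, mul_inv_cancel₀ hμ, one_smul]⟩, ?_⟩
  rcases hcε with h | h
  · left
    refine Matrix.map_injective ι.injective ?_
    show (Γ : Mn₀)ᵀ.map ι = (Γ : Mn₀).map ι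
    rw [hT, h, one_smul]
  · right
    refine Matrix.map_injective ι.injective ?_
    show (Γ : Mn₀)ᵀ.map ι = (-(Γ : Mn₀)).map ι
    rw [hT, h]
    ext i j
    simp

/-- Every symmetric or skew form is a descent. -/
theorem exists_lift_graph {Γ : GL (Fin n) F₀} {ε : F} (hε : ε = 1 ∨ ε = -1)
    (hT : (Γ : Mn₀)ᵀ.map ι = ε • (Γ : Mn₀).map ι) :
    ∃ K : Cfsg.GU n F q, Desc τ ι K Γ ∧ Cfsg.IsGraphAutClassPSU (gautU τ K) ∧ orderOf (gautU τ K) = 2 := by
  haveI : NeZero n := ⟨by have := D.three; omega⟩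
  obtain ⟨μ, hμ, hμτ⟩ := D.exists_eigen hε
  have hε0 : ε ≠ 0 := by rcases hε with rfl | rfl <;> simp
  have hετ : τ ε = ε := by rcases hε with h | h <;> simp [h]
  have hε2 : ε * ε = 1 := by rcases hε with h | h <;> simp [h]
  set H : Mn := μ • (Γ : Mn₀).map ι with hH
  have hHT : Hᵀ = ε • H := by rw [hH, transpose_smul, ← Matrix.transpose_map, hT, smul_comm]
  have hHh : H = (H.map τ)ᵀ := by
    rw [← Matrix.transpose_map, hHT, map_smul_mat, hH, map_smul_mat, D.map_ι, hμτ, smul_smul, hετ, ← mul_assoc, hε2,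
      one_mul]
  obtain ⟨Q, hQ⟩ := hermitian_factor (σ := τ) D.ne_one D.invol
    ((Γ.isUnit.map ι.mapMatrix).smul (Units.mk0 μ hμ)) hHh
  change H = _ at hQ
  let P : GL (Fin n) F := GeneralLinearGroup.mkOfDetNeZero (Q : Mn)ᵀ (by
    rw [Matrix.det_transpose]; exact (GeneralLinearGroup.det Q).ne_zero)
  have hP : (P : Mn)ᵀ * (P : Mn).map τ = μ • (Γ : Mn₀).map ι := by
    show (Q : Mn)ᵀᵀ * (Q : Mn)ᵀ.map τ = _
    rw [transpose_transpose, Matrix.transpose_map, ← hQ]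
  obtain ⟨t, ht⟩ := D.exists_norm (c := ε) hετ
  have ht0 : t ≠ 0 := fun h0 => hε0 (by rw [← ht, h0, zero_mul])
  let Pτ : GL (Fin n) F := GeneralLinearGroup.map (τ : F →+* F) P
  let K : GL (Fin n) F := GeneralLinearGroup.scalar (Fin n) (Units.mk0 t ht0) * Pτ * P⁻¹
  have hKv : (K : Mn) = t • ((P : Mn).map τ * ((P⁻¹ : GL (Fin n) F) : Mn)) := by
    show Matrix.scalar (Fin n) t * (P : Mn).map τ * ((P⁻¹ : GL (Fin n) F) : Mn) = _
    rw [Matrix.scalar_apply, ← Matrix.smul_one_eq_diagonal, smul_mul_assoc, one_mul, smul_mul_assoc]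
  have hKP : (K : Mn) * (P : Mn) = t • (P : Mn).map τ := by
    rw [hKv, smul_mul_assoc, mul_assoc, Units.inv_mul, mul_one]
  have hKτ : (K : Mn).map τ * (P : Mn).map τ = τ t • (P : Mn) := by
    rw [← Matrix.map_mul, hKP, map_smul_mat, D.map_map]
  have hK : K ∈ Cfsg.GU n F q := by
    rw [D.mem_GU]
    refine (P.isUnit.map (τ : F →+* F).mapMatrix).mul_right_cancel ?_
    refine ((Matrix.isUnit_transpose _).2 P.isUnit).mul_left_cancel ?_
    show (P : Mn)ᵀ * ((K : Mn)ᵀ * (K : Mn).map τ * (P : Mn).map τ) = (P : Mn)ᵀ * (1 * (P : Mn).map τ)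
    rw [mul_assoc, hKτ, mul_smul_comm, mul_smul_comm, ← mul_assoc, ← transpose_mul, hKP, transpose_smul, smul_mul_assoc,
      smul_smul, one_mul, mul_comm (τ t), ht, ← transpose_transpose ((P : Mn).map τ)ᵀ]
    rw [transpose_transpose, show ((P : Mn).map τ)ᵀ * (P : Mn) = ((P : Mn)ᵀ * (P : Mn).map τ)ᵀ by
      rw [transpose_mul, transpose_transpose], hP, ← hH, hHT, smul_smul, hε2, one_smul]
  refine ⟨⟨K, hK⟩, ⟨P, t, μ, ht0, hμ, hKP, hP⟩, ⟨D.three, δ (⟨K, hK⟩ : Cfsg.GU n F q)⁻¹, fld τ, τ,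
    by rw [D.order]; exact even_two, (innerDiag_iff _).2 ⟨_, rfl⟩, (fieldAut_iff _ _).2 rfl, rfl⟩,
    orderOf_eq_prime ?_ fun h => D.ne_one (D.setting.δ_fld_eq_one D.three h).1⟩
  have hKK : (K : Mn).map τ * (K : Mn) = ε • (1 : Mn) := by
    refine P.isUnit.mul_right_cancel ?_
    rw [mul_assoc, hKP, mul_smul_comm, hKτ, smul_smul, ht, smul_mul_assoc, one_mul]
  rw [sq, gautU, mul_assoc, ← mul_assoc (fld τ), fld_δ', mul_assoc (δ (mapGU τ _)), ← mul_assoc, ← map_mul δ,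
    ← map_mul fld, ← sq, show τ ^ 2 = 1 from D.order ▸ pow_orderOf_eq_one τ, map_one, mul_one]
  have hu : Units.mk0 ε hε0 ∈ normOne F q := MonoidHom.mem_ker.2 (Units.ext (by
    rw [powMonoidHom_apply, Units.val_pow_eq_pow_val, Units.val_mk0, Units.val_one, pow_succ',
      ← D.setting.frob.pow, ← D.eq, hετ, hε2]))
  rw [map_inv (mapGU τ), ← _root_.mul_inv_rev, map_inv, inv_eq_one, D.setting.δ_eq_one_iff D.three]
  exact ⟨⟨_, hu⟩, Subtype.ext (Units.ext (by rw [scalarGU_coe]; exact hKK))⟩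

end

end CfsgLib.Geometry.GraphPSU
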