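import Cfsg.Agent.Lib.Geometry.GraphPSU.Transfer
import Cfsg.Agent.Lib.Geometry.GraphPSL.Split

/-!
Splitting over `PSU_n(q)` of the classes of involutory graph automorphisms.
-/

set_option autoImplicit false

namespace CfsgLib.Geometry.GraphPSU

open Matrix CfsgLib.Classical CfsgLib.Classical.Unitary CfsgLib.KnownB CfsgLib.KnownB.PSUAut
  CfsgLib.KnownB.Descent

variable {F F₀ : Type*} [Field F] [Field F₀] [Finite F] [Finite F₀] {n p q : ℕ} {σ : F →+* F} {τ : F ≃+* F}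
  {ι : F₀ →+* F}

local notation "Mn₀" => Matrix (Fin n) (Fin n) F₀
local notation "N1" => Cfsg.GU n F q
local notation "Rn" => MonoidHom.range (powMonoidHom n : normOne F q →* normOne F q)

theorem mem_normOne (D : Pair σ τ ι p q n) {c : F} (hc : c * τ c = 1) :
    ∃ u : normOne F q, ((u : Fˣ) : F) = c :=
  ⟨⟨Units.mk0 c (left_ne_zero_of_mul_eq_one hc), MonoidHom.mem_ker.2 (Units.ext (by
    rw [powMonoidHom_apply, Units.val_pow_eq_pow_val, Units.val_mk0, Units.val_one, pow_succ',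
      ← D.setting.frob.pow, ← D.eq, hc]))⟩, rfl⟩

theorem normOne_mul_τ (D : Pair σ τ ι p q n) (u : normOne F q) : ((u : Fˣ) : F) * τ ((u : Fˣ) : F) = 1 := by
  have := congrArg Units.val (MonoidHom.mem_ker.1 u.2)
  rwa [powMonoidHom_apply, Units.val_pow_eq_pow_val, Units.val_one, pow_succ', ← D.setting.frob.pow, ← D.eq] at this

theorem exists_div_eq (D : Pair σ τ ι p q n) (u : normOne F q) :
    ∃ a : F, a ≠ 0 ∧ a = ((u : Fˣ) : F) * τ a := by
  set c : F := ((u : Fˣ) : F) with hc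
  by_cases h : c = -1
  · obtain ⟨μ, hμ, hμτ⟩ := D.exists_eigen (ε := (-1 : F)) (Or.inr rfl)
    exact ⟨μ, hμ, by rw [h, hμτ, ← mul_assoc, neg_one_mul, neg_neg, one_mul]⟩
  · refine ⟨1 + c, fun h0 => h (by linear_combination h0), ?_⟩
    rw [map_add, map_one, mul_add, mul_one, normOne_mul_τ D u]
    ring

/-- The centraliser preimage and its determinants. -/
theorem det_cent (D : Pair σ τ ι p q n) (hn1 : 1 ≤ n) {K : Cfsg.GU n F q} {Γ : GL (Fin n) F₀}
    (hD : Desc τ ι K Γ) {g : Cfsg.GU n F q}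
    (hg : g ∈ (Subgroup.centralizer {gautU τ K}).comap (δ : Cfsg.GU n F q →* MulAut (Cfsg.PSU n F q))) :
    ∃ (a : F) (e : F₀ˣ) (A : GL (Fin n) F₀), a ≠ 0 ∧ a * τ a = ι (e : F₀)⁻¹ ∧
      (A : Mn₀)ᵀ * (Γ : Mn₀) * (A : Mn₀) = (e : F₀) • (Γ : Mn₀) ∧
      (((detN D.setting.card hn1 g : normOne F q) : Fˣ) : F) = a ^ n * ι (A : Mn₀).det := by
  obtain ⟨P, t, μ, ht, hμ, hKP, hG⟩ := hD
  obtain ⟨c, hc, he⟩ := (comm_iff D g K).1 hg
  obtain ⟨a, A, ha, hA, hN⟩ := cent_shape D ht hμ hKP hG hc he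
  obtain ⟨y, hy⟩ := (D.fix (a * τ a)).1 (by rw [map_mul, D.invol, mul_comm])
  have hy0 : y ≠ 0 := fun h0 => mul_ne_zero ha ((map_ne_zero τ).2 ha) (by rw [← hy, h0, map_zero])
  rw [← hy, ← map_ι_smul] at hN
  refine ⟨a, Units.mk0 y⁻¹ (inv_ne_zero hy0), A, ha, by rw [Units.val_mk0, inv_inv, hy], ?_, ?_⟩
  · have h2 := Matrix.map_injective ι.injective hN
    rw [Units.val_mk0]
    conv_rhs => rw [← h2, smul_smul, inv_mul_cancel₀ hy0, one_smul]
  · show g.1.1.det = _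
    have h := congrArg Matrix.det hA
    rw [det_mul, det_smul, Fintype.card_fin, det_mul] at h
    refine mul_right_cancel₀ (GeneralLinearGroup.det P).ne_zero ?_
    show g.1.1.det * (P : Matrix (Fin n) (Fin n) F).det = _
    rw [h, RingHom.map_det, RingHom.mapMatrix_apply]
    show _ = _ * (P : Matrix (Fin n) (Fin n) F).det
    ring

theorem det_lift (D : Pair σ τ ι p q n) (hn1 : 1 ≤ n) {K : Cfsg.GU n F q} {Γ B : GL (Fin n) F₀}
    (hD : Desc τ ι K Γ) {e : F₀ˣ} (he : (B : Mn₀)ᵀ * (Γ : Mn₀) * (B : Mn₀) = (e : F₀) • (Γ : Mn₀))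
    {b : F} (hb : b * τ b = ι (e : F₀)⁻¹) :
    ∃ g : Cfsg.GU n F q, g ∈ (Subgroup.centralizer {gautU τ K}).comap (δ : Cfsg.GU n F q →* MulAut (Cfsg.PSU n F q)) ∧
      (((detN D.setting.card hn1 g : normOne F q) : Fˣ) : F) = b ^ n * ι (B : Mn₀).det := by
  obtain ⟨P, t, μ, ht, hμ, hKP, hG⟩ := hD
  have hb0 : b ≠ 0 := fun h0 => (map_ne_zero ι).2 (inv_ne_zero e.ne_zero) (by rw [← hb, h0, zero_mul])
  obtain ⟨g, hg, hgv⟩ := cent_lift D ht hμ hKP hG he hb0 hb
  refine ⟨g, hg, ?_⟩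
  show g.1.1.det = _
  have h := congrArg Matrix.det hgv
  rw [det_mul, det_smul, Fintype.card_fin, det_mul] at h
  refine mul_right_cancel₀ (GeneralLinearGroup.det P).ne_zero ?_
  show g.1.1.det * (P : Matrix (Fin n) (Fin n) F).det = _
  rw [h, RingHom.map_det, RingHom.mapMatrix_apply]
  show _ = _ * (P : Matrix (Fin n) (Fin n) F).det
  ring

theorem split_eq (D : Pair σ τ ι p q n) (hn1 : 1 ≤ n) (K : Cfsg.GU n F q) (L : Subgroup (normOne F q))
    (hL : ((Subgroup.centralizer {gautU τ K}).comap (δ : Cfsg.GU n F q →* MulAut (Cfsg.PSU n F q))).map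
      (detN D.setting.card hn1) ⊔ Rn = L) :
    Cfsg.splitClassCount (Cfsg.inndiagPSU n F q) (Cfsg.Inn (Cfsg.PSU n F q)) (gautU τ K) = L.index := by
  haveI := Cfsg.innNormal (Cfsg.PSU n F q)
  have hdsurj : Function.Surjective (detN D.setting.card hn1 : Cfsg.GU n F q →* normOne F q) := fun u => by
    obtain ⟨g, hg⟩ := (guDet_range D.setting.card hn1).ge u.2
    exact ⟨g, Subtype.ext hg⟩
  rw [D.setting.inndiag_eq, splitClassCount_range δ _ (by rw [inn_eq]; rintro _ ⟨s, rfl⟩; exact ⟨_, rfl⟩)]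
  set C := (Subgroup.centralizer {gautU τ K}).comap (δ : Cfsg.GU n F q →* MulAut (Cfsg.PSU n F q)) with hC
  have hK : (Cfsg.Inn (Cfsg.PSU n F q)).comap δ = (Rn).comap (detN D.setting.card hn1) := by
    ext g
    exact D.setting.δ_mem_inn_iff D.three g
  rw [hK, ← Subgroup.index_comap_of_surjective L hdsurj, ← hL, ← Subgroup.comap_sup_eq _ _ _ hdsurj,
    Subgroup.comap_map_eq, sup_right_comm, sup_comm C,
    sup_eq_left.2 (le_trans (Subgroup.ker_le_comap _ _) le_sup_left)]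

theorem index_pow (D : Pair σ τ ι p q n) (k : ℕ) :
    (MonoidHom.range (powMonoidHom k : normOne F q →* normOne F q)).index = Nat.gcd (q + 1) k := by
  rw [IsCyclic.index_powMonoidHom_range, card_normOne D.setting.card]

theorem pow_le_pow {m : ℕ} (hm : n = 2 * m) :
    Rn ≤ MonoidHom.range (powMonoidHom m : normOne F q →* normOne F q) := by
  rintro _ ⟨x, rfl⟩
  exact ⟨x ^ 2, by rw [powMonoidHom_apply, powMonoidHom_apply, ← pow_mul, hm]⟩

/-- The odd case. -/
theorem split_odd (D : Pair σ τ ι p q n) {K : Cfsg.GU n F q} {Γ : GL (Fin n) F₀} (hD : Desc τ ι K Γ)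
    (hd : Odd (Nat.gcd n (q + 1))) :
    Cfsg.splitClassCount (Cfsg.inndiagPSU n F q) (Cfsg.Inn (Cfsg.PSU n F q)) (gautU τ K) = Nat.gcd n (q + 1) := by
  have hn1 : 1 ≤ n := by have := D.three; omega
  rw [split_eq D hn1 K Rn (sup_eq_right.2 ?_), index_pow D, Nat.gcd_comm]
  rintro _ ⟨g, hg, rfl⟩
  obtain ⟨a, e, A, ha, hae, hA, hdet⟩ := det_cent D hn1 hD hg
  set c := detN D.setting.card hn1 g with hc
  have hτa : τ a ≠ 0 := (map_ne_zero τ).2 ha
  obtain ⟨w, hw⟩ := mem_normOne D (c := a * (τ a)⁻¹) (by rw [map_mul, map_inv₀, D.invol]; field_simp)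
  have hsq : c ^ 2 = w ^ n := by
    refine Subtype.ext (Units.ext ?_)
    simp only [SubmonoidClass.coe_pow, Units.val_pow_eq_pow_val]
    rw [hdet, hw]
    have h1 := congrArg Matrix.det hA
    rw [det_mul, det_mul, det_transpose, det_smul, Fintype.card_fin] at h1
    have h2 : ι (A : Mn₀).det ^ 2 = ι (e : F₀) ^ n := by
      rw [← map_pow, ← map_pow]
      congr 1
      refine mul_right_cancel₀ (GeneralLinearGroup.det Γ).ne_zero ?_
      show (A : Mn₀).det ^ 2 * (Γ : Mn₀).det = _ * (Γ : Mn₀).det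
      rw [← h1]
      ring
    rw [map_inv₀] at hae
    have he0 : ι (e : F₀) ≠ 0 := (map_ne_zero ι).2 e.ne_zero
    rw [mul_pow, h2, ← pow_mul, mul_comm n 2, pow_mul, ← mul_pow]
    congr 1
    field_simp at hae ⊢
    linear_combination hae
  obtain ⟨k, hk⟩ := hd
  have h1 : c ^ (2 * k + 1) ∈ Rn := by
    have := Subgroup.pow_index_mem (MonoidHom.range (powMonoidHom n : normOne F q →* normOne F q)) c
    rwa [index_pow D, Nat.gcd_comm, hk] at this
  have h2 : (c ^ 2) ^ k ∈ Rn := Subgroup.pow_mem _ (show c ^ 2 ∈ Rn from ⟨w, hsq.symm⟩) k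
  rw [pow_succ, pow_mul] at h1
  exact (Subgroup.mul_mem_cancel_left _ h2).1 h1

/-- The alternating case. -/
theorem split_alt (D : Pair σ τ ι p q n) {m : ℕ} (hnm : n = 2 * m) (h2 : (2 : F₀) ≠ 0) {K : Cfsg.GU n F q}
    {Γ : GL (Fin n) F₀} (hD : Desc τ ι K Γ) (hΓ : (Γ : Mn₀)ᵀ = -(Γ : Mn₀)) :
    Cfsg.splitClassCount (Cfsg.inndiagPSU n F q) (Cfsg.Inn (Cfsg.PSU n F q)) (gautU τ K) = Nat.gcd m (q + 1) := by
  have hn1 : 1 ≤ n := by have := D.three; omega
  have hd : ∀ (M : Mn₀), Mᵀ = -M → ∀ i, M i i = 0 := fun M hM i => by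
    have := congrFun (congrFun hM i) i
    rw [transpose_apply, Matrix.neg_apply, eq_neg_iff_add_eq_zero, ← two_mul] at this
    exact (mul_eq_zero.1 this).resolve_left h2
  have hdA : ∀ (A : GL (Fin n) F₀) (e : F₀ˣ), (A : Mn₀)ᵀ * (Γ : Mn₀) * (A : Mn₀) = (e : F₀) • (Γ : Mn₀) →
      (A : Mn₀).det = (e : F₀) ^ m := by
    intro A e hA
    rw [← LinearMap.det_toLin']
    refine det_alt_similitude (GraphPSL.isAlt_toBilin' hΓ (hd _ hΓ)) (fun u hu => ?_) e.ne_zero (fun u v => ?_)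
      (by rw [Module.finrank_pi, Fintype.card_fin, hnm])
    · refine Matrix.eq_zero_of_vecMul_eq_zero (M := (Γ : Mn₀)) (GeneralLinearGroup.det Γ).ne_zero ?_
      refine dotProduct_eq_zero _ fun v => ?_
      rw [← dotProduct_mulVec, ← Matrix.toBilin'_apply']
      exact hu v
    · rw [Matrix.toBilin'_apply', Matrix.toBilin'_apply', toLin'_apply, toLin'_apply, GraphPSL.form_mulVec, hA,
        smul_mulVec, dotProduct_smul, smul_eq_mul]
  rw [split_eq D hn1 K (MonoidHom.range (powMonoidHom m : normOne F q →* normOne F q)) ?_, index_pow D, Nat.gcd_comm]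
  refine le_antisymm (sup_le ?_ (pow_le_pow hnm)) fun x hx => Subgroup.mem_sup_left ?_
  · rintro _ ⟨g, hg, rfl⟩
    obtain ⟨a, e, A, ha, hae, hA, hdet⟩ := det_cent D hn1 hD hg
    obtain ⟨w, hw⟩ := mem_normOne D (c := a * (τ a)⁻¹) (by
      rw [map_mul, map_inv₀, D.invol]; field_simp [(map_ne_zero τ).2 ha])
    refine ⟨w, Subtype.ext (Units.ext ?_)⟩
    rw [powMonoidHom_apply, SubmonoidClass.coe_pow, Units.val_pow_eq_pow_val, hw, hdet, hdA A e hA, hnm, map_pow,
      pow_mul, ← mul_pow]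
    congr 1
    rw [map_inv₀] at hae
    have he0 : ι (e : F₀) ≠ 0 := (map_ne_zero ι).2 e.ne_zero
    field_simp [(map_ne_zero τ).2 ha] at hae ⊢
    linear_combination -hae
  · obtain ⟨w, rfl⟩ := hx
    obtain ⟨a, ha, haw⟩ := exists_div_eq D w
    obtain ⟨y, hy⟩ := (D.fix (a * τ a)).1 (by rw [map_mul, D.invol, mul_comm])
    have hy0 : y ≠ 0 := fun h0 => mul_ne_zero ha ((map_ne_zero τ).2 ha) (by rw [← hy, h0, map_zero])
    have hKd : (Γ : Mn₀).det ≠ 0 := (GeneralLinearGroup.det Γ).ne_zero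
    have hcΓ : (y⁻¹ • (Γ : Mn₀))ᵀ = -(y⁻¹ • (Γ : Mn₀)) := by rw [transpose_smul, hΓ, smul_neg]
    let e : Fin m ⊕ Fin m ≃ Fin n := Fintype.equivFinOfCardEq (by simp; omega)
    obtain ⟨B, hB⟩ := (GraphPSL.congr_alt hΓ (hd _ hΓ) hKd e).trans (GraphPSL.congr_alt hcΓ (hd _ hcΓ)
      (by rw [det_smul]; exact mul_ne_zero (pow_ne_zero _ (inv_ne_zero hy0)) hKd) e).symm
    obtain ⟨g, hg, hdet⟩ := det_lift D hn1 hD (B := B) (e := Units.mk0 y⁻¹ (inv_ne_zero hy0)) (by rw [Units.val_mk0]; exact hB) (b := a)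
      (by rw [Units.val_mk0, inv_inv, hy])
    refine ⟨g, hg, Subtype.ext (Units.ext ?_)⟩
    rw [powMonoidHom_apply, SubmonoidClass.coe_pow, Units.val_pow_eq_pow_val, hdet, hdA B (Units.mk0 y⁻¹ (inv_ne_zero hy0)) hB, hnm, map_pow,
      Units.val_mk0, map_inv₀, hy, pow_mul, ← mul_pow]
    congr 1
    field_simp [(map_ne_zero τ).2 ha]
    linear_combination haw

/-- The symmetric case. -/
theorem split_sym (D : Pair σ τ ι p q n) {m : ℕ} (hnm : n = 2 * m) (hq : Odd q) (h2 : (2 : F₀) ≠ 0)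
    {K : Cfsg.GU n F q} {Γ : GL (Fin n) F₀} (hD : Desc τ ι K Γ) (hΓ : (Γ : Mn₀)ᵀ = (Γ : Mn₀)) :
    Cfsg.splitClassCount (Cfsg.inndiagPSU n F q) (Cfsg.Inn (Cfsg.PSU n F q)) (gautU τ K) =
      Nat.gcd n (q + 1) / 2 := by
  have hn1 : 1 ≤ n := by have := D.three; omega
  have h2F : (2 : F) ≠ 0 := by rw [← map_ofNat ι 2]; exact (map_ne_zero ι).2 h2
  obtain ⟨s, hs⟩ := mem_normOne D (c := -1) (by rw [map_neg, map_one, neg_one_mul, neg_neg])
  have hord : orderOf s = 2 := by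
    refine orderOf_eq_prime (Subtype.ext (Units.ext ?_)) fun h => h2F ?_
    · simp [hs]
    · have : ((s : Fˣ) : F) = 1 := by rw [h]; rfl
      rw [hs] at this
      linear_combination -this
  set Pm := MonoidHom.range (powMonoidHom m : normOne F q →* normOne F q) with hPm
  obtain ⟨M, hM⟩ : ∃ M, q + 1 = 2 * M := by obtain ⟨k, rfl⟩ := hq; exact ⟨k + 1, by ring⟩
  have hidx : (Subgroup.zpowers s ⊔ Pm).index = Nat.gcd n (q + 1) / 2 := by
    have hs' := Subgroup.index_mul_card (Subgroup.zpowers s)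
    rw [Nat.card_zpowers, hord, card_normOne D.setting.card, hM] at hs'
    rw [index_sup_cyclic, index_pow D, show (Subgroup.zpowers s).index = M by omega, hM, hnm,
      Nat.gcd_mul_left, Nat.mul_div_cancel_left _ two_pos, ← Nat.gcd_assoc,
      Nat.gcd_eq_left (dvd_mul_left M 2), Nat.gcd_comm]
  rw [split_eq D hn1 K _ ?_, hidx]
  refine le_antisymm (sup_le ?_ (le_trans (pow_le_pow hnm) le_sup_right)) (sup_le ?_ ?_)
  · rintro _ ⟨g, hg, rfl⟩
    obtain ⟨a, e, A, ha, hae, hA, hdet⟩ := det_cent D hn1 hD hg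
    obtain ⟨w, hw⟩ := mem_normOne D (c := a * (τ a)⁻¹) (by
      rw [map_mul, map_inv₀, D.invol]; field_simp [(map_ne_zero τ).2 ha])
    set c := detN D.setting.card hn1 g with hc
    have h3 : ((c : Fˣ) : F) * ((c : Fˣ) : F) =
        (((w ^ m : normOne F q) : Fˣ) : F) * (((w ^ m : normOne F q) : Fˣ) : F) := by
      rw [SubmonoidClass.coe_pow, Units.val_pow_eq_pow_val, hdet, hw]
      have h1 := congrArg Matrix.det hA
      rw [det_mul, det_mul, det_transpose, det_smul, Fintype.card_fin] at h1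
      have h2 : ι (A : Mn₀).det ^ 2 = ι (e : F₀) ^ n := by
        rw [← map_pow, ← map_pow]
        congr 1
        refine mul_right_cancel₀ (GeneralLinearGroup.det Γ).ne_zero ?_
        show (A : Mn₀).det ^ 2 * (Γ : Mn₀).det = _ * (Γ : Mn₀).det
        rw [← h1]
        ring
      rw [map_inv₀] at hae
      have he0 : ι (e : F₀) ≠ 0 := (map_ne_zero ι).2 e.ne_zero
      rw [← pow_two, mul_pow, h2, hnm, ← mul_pow (a * (τ a)⁻¹), ← pow_mul, mul_comm (2 * m) 2, pow_mul,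
        ← mul_pow, pow_mul _ 2 m]
      have h4 : a ^ 2 * ι (e : F₀) = a * (τ a)⁻¹ := by
        field_simp [(map_ne_zero τ).2 ha] at hae ⊢
        linear_combination hae
      rw [h4, ← pow_two]
    rcases mul_self_eq_mul_self_iff.1 h3 with h4 | h4
    · rw [show c = w ^ m from Subtype.ext (Units.ext h4)]
      exact Subgroup.mem_sup_right ⟨w, rfl⟩
    · rw [show c = s * w ^ m from Subtype.ext (Units.ext (by rw [h4]; simp [hs]))]
      exact mul_mem (Subgroup.mem_sup_left (Subgroup.mem_zpowers s)) (Subgroup.mem_sup_right ⟨w, rfl⟩)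
  · rw [Subgroup.zpowers_le]
    obtain ⟨B, hB, hBd⟩ := GraphPSL.exists_isom_det_neg_one h2 (by omega) Γ hΓ
    obtain ⟨g, hg, hdet⟩ := det_lift D hn1 hD (B := B) (e := 1) (by rw [hB, Units.val_one, one_smul]) (b := 1)
      (by simp)
    refine Subgroup.mem_sup_left ⟨g, hg, Subtype.ext (Units.ext ?_)⟩
    rw [hdet, hs, one_pow, one_mul]
    have hBd' : (B : Mn₀).det = -1 := by simpa using congrArg Units.val hBd
    rw [hBd', map_neg, map_one]
  · rintro _ ⟨w, rfl⟩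
    obtain ⟨a, ha, haw⟩ := exists_div_eq D w
    obtain ⟨y, hy⟩ := (D.fix (a * τ a)).1 (by rw [map_mul, D.invol, mul_comm])
    have hy0 : y ≠ 0 := fun h0 => mul_ne_zero ha ((map_ne_zero τ).2 ha) (by rw [← hy, h0, map_zero])
    have hKd : (Γ : Mn₀).det ≠ 0 := (GeneralLinearGroup.det Γ).ne_zero
    obtain ⟨B, hB⟩ := GraphPSL.congr_of_disc (J := (Γ : Mn₀)) (J' := y⁻¹ • (Γ : Mn₀)) h2 hΓ
      (by rw [transpose_smul, hΓ]) hKd (by rw [det_smul]; exact mul_ne_zero (pow_ne_zero _ (inv_ne_zero hy0)) hKd)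
      ⟨y⁻¹ ^ m * (Γ : Mn₀).det, by rw [det_smul, Fintype.card_fin]; subst hnm; ring⟩
    obtain ⟨g, hg, hdet⟩ := det_lift D hn1 hD (B := B) (e := Units.mk0 y⁻¹ (inv_ne_zero hy0)) (by rw [Units.val_mk0]; exact hB) (b := a)
      (by rw [Units.val_mk0, inv_inv, hy])
    have hBd : (B : Mn₀).det * (B : Mn₀).det = y⁻¹ ^ m * y⁻¹ ^ m := by
      have h1 := congrArg Matrix.det hB
      rw [det_mul, det_mul, det_transpose, det_smul, Fintype.card_fin] at h1
      refine mul_right_cancel₀ hKd ?_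
      rw [← pow_add, ← two_mul, ← hnm, ← h1]
      ring
    have hval : a ^ n * ι (y⁻¹ ^ m) = ((w : Fˣ) : F) ^ m := by
      rw [map_pow, map_inv₀, hy, hnm, pow_mul, ← mul_pow]
      congr 1
      field_simp [(map_ne_zero τ).2 ha]
      linear_combination haw
    set c := detN D.setting.card hn1 g with hc
    have hmem : c ∈ ((Subgroup.centralizer {gautU τ K}).comap
        (δ : Cfsg.GU n F q →* MulAut (Cfsg.PSU n F q))).map (detN D.setting.card hn1) ⊔ Rn :=
      Subgroup.mem_sup_left ⟨g, hg, rfl⟩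
    rcases mul_self_eq_mul_self_iff.1 hBd with h4 | h4
    · rw [show powMonoidHom m w = c from Subtype.ext (Units.ext (by
        rw [powMonoidHom_apply, SubmonoidClass.coe_pow, Units.val_pow_eq_pow_val, hdet, h4, hval]))]
      exact hmem
    · obtain ⟨B', hB', hBd'⟩ := GraphPSL.exists_isom_det_neg_one h2 (by omega) Γ hΓ
      obtain ⟨g', hg', hdet'⟩ := det_lift D hn1 hD (B := B') (e := 1) (by rw [hB', Units.val_one, one_smul]) (b := 1)
        (by simp)
      rw [show powMonoidHom m w = c * detN D.setting.card hn1 g' from Subtype.ext (Units.ext (by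
        have hBd'' : (B' : Mn₀).det = -1 := by simpa using congrArg Units.val hBd'
        rw [powMonoidHom_apply, SubmonoidClass.coe_pow, Units.val_pow_eq_pow_val, Subgroup.coe_mul, Units.val_mul,
          hdet, hdet', h4, hBd'', map_neg, map_neg, map_one, one_pow, one_mul, ← hval]
        ring))]
      exact mul_mem hmem (Subgroup.mem_sup_left ⟨g', hg', rfl⟩)

end CfsgLib.Geometry.GraphPSU
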