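import Cfsg.Agent.Lib.Geometry.GraphPSU.Corr

/-!
Transfer of the `PSL_n(q)` classes of involutory graph automorphisms to `PSU_n(q)`.
-/

set_option autoImplicit false

namespace CfsgLib.Geometry.GraphPSU

open Matrix CfsgLib.KnownB.PSUAut

variable {F F₀ : Type*} [Field F] [Field F₀] [Finite F] [Finite F₀] {n p q : ℕ} {σ : F →+* F} {τ : F ≃+* F}
  {ι : F₀ →+* F}

theorem exists_pair' [Fintype F] [Fintype F₀] (hF : Fintype.card F = q ^ 2) (hF₀ : Fintype.card F₀ = q)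
    (hn : 3 ≤ n) : ∃ (p : ℕ) (σ : F →+* F) (τ : F ≃+* F) (ι : F₀ →+* F), Pair σ τ ι p q n := by
  obtain ⟨p, -, f, hp, hc⟩ := FiniteField.card' F₀
  haveI := Fact.mk hp
  exact ⟨p, exists_pair (hF₀.symm.trans hc) f.pos hF hF₀ hn⟩

theorem isGraph_of_sym {Γ : GL (Fin n) F₀} (hn : 3 ≤ n)
    (hΓ : (Γ : Matrix (Fin n) (Fin n) F₀)ᵀ = Γ ∨ (Γ : Matrix (Fin n) (Fin n) F₀)ᵀ = -(Γ : Matrix (Fin n) (Fin n) F₀)) :
    Cfsg.IsGraphAutClassPSL (GraphPSL.gaut Γ) ∧ orderOf (GraphPSL.gaut Γ) = 2 := by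
  rcases hΓ with h | h
  · exact GraphPSL.gaut_isGraph hn Γ one_ne_zero (by rw [one_smul, h])
  · exact GraphPSL.gaut_isGraph hn Γ (neg_ne_zero.2 one_ne_zero) (by rw [neg_one_smul, h])

theorem cent_to_psl (D : Pair σ τ ι p q n) {K : Cfsg.GU n F q} {Γ : GL (Fin n) F₀} (hD : Desc τ ι K Γ) :
    Nonempty (↥(Cfsg.inndiagPSU n F q ⊓ Subgroup.centralizer {gautU τ K}) ≃*
      ↥(GraphPSL.CC (GraphPSL.gaut Γ))) := by
  obtain ⟨f⟩ := centralizer_equiv D hD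
  obtain ⟨g⟩ := GraphPSL.centralizer_gaut (by have := D.three; omega) Γ
  exact ⟨f.trans g.symm⟩

/-- Descent of an involutory graph automorphism. -/
theorem graph_desc (D : Pair σ τ ι p q n) {x : MulAut (Cfsg.PSU n F q)} (hx : Cfsg.IsGraphAutClassPSU x)
    (hx2 : orderOf x = 2) :
    ∃ (K : Cfsg.GU n F q) (Γ : GL (Fin n) F₀), x = gautU τ K ∧ Desc τ ι K Γ ∧
      Cfsg.IsGraphAutClassPSL (GraphPSL.gaut Γ) ∧ orderOf (GraphPSL.gaut Γ) = 2 ∧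
      Nonempty (↥(Cfsg.inndiagPSU n F q ⊓ Subgroup.centralizer {x}) ≃* ↥(GraphPSL.CC (GraphPSL.gaut Γ))) := by
  obtain ⟨K, Γ, rfl, hD, hΓ⟩ := exists_desc D hx hx2
  exact ⟨K, Γ, rfl, hD, (isGraph_of_sym D.three hΓ).1, (isGraph_of_sym D.three hΓ).2, cent_to_psl D hD⟩

/-- Lift of an involutory graph automorphism. -/
theorem graph_lift (D : Pair σ τ ι p q n) {y : MulAut (Matrix.ProjectiveSpecialLinearGroup (Fin n) F₀)}
    (hy : Cfsg.IsGraphAutClassPSL y) (hy2 : orderOf y = 2) :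
    ∃ (K : Cfsg.GU n F q) (Γ : GL (Fin n) F₀), y = GraphPSL.gaut Γ ∧ Desc τ ι K Γ ∧
      Cfsg.IsGraphAutClassPSU (gautU τ K) ∧ orderOf (gautU τ K) = 2 ∧
      Nonempty (↥(Cfsg.inndiagPSU n F q ⊓ Subgroup.centralizer {gautU τ K}) ≃* ↥(GraphPSL.CC y)) := by
  obtain ⟨Γ, rfl, hΓ⟩ := GraphPSL.exists_gaut D.three hy hy2
  obtain ⟨ε, hε, hT⟩ : ∃ ε : F, (ε = 1 ∨ ε = -1) ∧
      (Γ : Matrix (Fin n) (Fin n) F₀)ᵀ.map ι = ε • (Γ : Matrix (Fin n) (Fin n) F₀).map ι := by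
    rcases hΓ with h | h
    · exact ⟨1, Or.inl rfl, by rw [h, one_smul]⟩
    · refine ⟨-1, Or.inr rfl, ?_⟩
      rw [h]
      ext i j
      simp
  obtain ⟨K, hD, h1, h2⟩ := exists_lift_graph D hε hT
  exact ⟨K, Γ, rfl, hD, h1, h2, cent_to_psl D hD⟩

end CfsgLib.Geometry.GraphPSU
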